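import Mathlib
import Cfsg.Agent.LargeExtraspecial.Pair
import Cfsg.Agent.Eq.Def_Solvable

/-!
Basic facts on a 2-core of an involution centralizer which is extraspecial and contains its
centralizer: the `Setting`, hyperplanes as centralizers, and involutions outside a hyperplane.
-/

set_option autoImplicit false

namespace CfsgLib.LargeExtraTransfer

open Cfsg CfsgLib.LargeExtraspecial

variable {G : Type*} [Group G] [Finite G]

/-- The setting from the hypotheses on `O_2(C(z))`. -/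
theorem setting_of_core {z : G} (hz : orderOf z = 2) {E : Subgroup G}
    (hE : E = (Cfsg.pCore 2 ↥(Subgroup.centralizer ({z} : Set G))).map
      (Subgroup.centralizer ({z} : Set G)).subtype)
    (hext : Cfsg.IsExtraspecial 2 ↥E) (hcent : Subgroup.centralizer (E : Set G) ≤ E) :
    Setting E z ∧ E ≤ Subgroup.centralizer ({z} : Set G) := by
  haveI : Fact (Nat.Prime 2) := ⟨Nat.prime_two⟩
  set C := Subgroup.centralizer ({z} : Set G) with hC
  have hEC : E ≤ C := hE ▸ Subgroup.map_subtype_le _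
  have hz1 : z ≠ 1 := fun e => by rw [e, orderOf_one] at hz; omega
  have hzC : z ∈ C := Subgroup.mem_centralizer_singleton_iff.2 rfl
  have hzE : z ∈ E := by
    rw [hE]
    refine ⟨⟨z, hzC⟩, ?_, rfl⟩
    have hn : (Subgroup.zpowers (⟨z, hzC⟩ : ↥C)).Normal := ⟨fun m hm c => by
      obtain ⟨k, rfl⟩ := hm
      refine ⟨k, ?_⟩
      have hc : Commute c (⟨z, hzC⟩ : ↥C) :=
        Subtype.ext (Subgroup.mem_centralizer_singleton_iff.1 c.2)
      show _ ^ k = _
      rw [(hc.zpow_right k).eq, mul_inv_cancel_right]⟩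
    have hp : IsPGroup 2 ↥(Subgroup.zpowers (⟨z, hzC⟩ : ↥C)) :=
      IsPGroup.of_card (n := 1) (by
        rw [Nat.card_zpowers, pow_one, ← Subgroup.orderOf_coe]; exact hz)
    exact (le_sSup (show Subgroup.zpowers (⟨z, hzC⟩ : ↥C) ∈
      {N : Subgroup ↥C | N.Normal ∧ IsPGroup 2 ↥N} from ⟨hn, hp⟩)) (Subgroup.mem_zpowers _)
  have hzz : z ∈ zOf E := mem_zOf.2
    ⟨hzE, fun q hq => Subgroup.mem_centralizer_singleton_iff.1 (hEC hq)⟩
  obtain ⟨w, -, -, hw⟩ := exists_gen hext
  obtain rfl : z = w := ((hw z).1 hzz).resolve_left hz1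
  refine ⟨⟨hext, hw, hz, ?_, fun c hc q => ?_⟩, hEC⟩
  · exact le_antisymm
      (fun x hx => mem_zOf.2 ⟨hcent hx, fun q hq => Subgroup.mem_centralizer_iff.1 hx q hq⟩)
      (zOf_le_centralizer E)
  · haveI : (Cfsg.pCore 2 ↥C).Normal := Subgroup.sSup_normal _ fun N hN => hN.1
    have key : ∀ (d : ↥C) (x : G), x ∈ E → (d : G) * x * (d : G)⁻¹ ∈ E := by
      intro d x hx
      rw [hE] at hx ⊢
      obtain ⟨x', hx', rfl⟩ := hx
      exact ⟨_, Subgroup.Normal.conj_mem inferInstance x' hx' d, rfl⟩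
    have hcC : c ∈ C := Subgroup.mem_centralizer_singleton_iff.2 hc
    refine ⟨key ⟨c, hcC⟩ q, fun h => ?_⟩
    have := key ⟨c, hcC⟩⁻¹ _ h
    simpa [mul_assoc] using this

variable {E : Subgroup G} {z : G}

/-- The centralizer in `E` drops by at most a factor two when one element is added. -/
theorem card_inf_centralizer_le (h : Setting E z) {A : Subgroup G} {x : G}
    (hx : x ∈ E) :
    Nat.card ↥(E ⊓ Subgroup.centralizer (A : Set G)) ≤
      2 * Nat.card ↥(E ⊓ Subgroup.centralizer ((A ⊔ Subgroup.zpowers x : Subgroup G) : Set G)) := by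
  classical
  set C0 := E ⊓ Subgroup.centralizer (A : Set G) with hC0
  set C1 := E ⊓ Subgroup.centralizer ((A ⊔ Subgroup.zpowers x : Subgroup G) : Set G) with hC1
  have hmem : ∀ a ∈ C0, a * x = x * a → a ∈ C1 := by
    intro a ha hax
    refine ⟨ha.1, Subgroup.mem_centralizer_iff.2 fun m hm => ?_⟩
    have hle : A ⊔ Subgroup.zpowers x ≤ Subgroup.centralizer ({a} : Set G) := by
      refine sup_le (fun b hb => Subgroup.mem_centralizer_singleton_iff.2
        (Subgroup.mem_centralizer_iff.1 ha.2 b hb)) (Subgroup.zpowers_le.2 ?_)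
      exact Subgroup.mem_centralizer_singleton_iff.2 hax.symm
    exact Subgroup.mem_centralizer_singleton_iff.1 (hle hm)
  by_cases hall : ∀ a ∈ C0, a * x = x * a
  · have : C0 ≤ C1 := fun a ha => hmem a ha (hall a ha)
    have := Subgroup.card_le_of_le this
    omega
  push Not at hall
  obtain ⟨c, hc, hcx⟩ := hall
  have hsub : (C0 : Set G) ⊆ (C1 : Set G) ∪ (fun e => c * e) '' (C1 : Set G) := by
    intro a ha
    rcases conj_mem_two h.extraspecial h.mem_iff ha.1 hx with e1 | e1
    · exact Or.inl (hmem a ha (mul_inv_eq_iff_eq_mul.1 e1))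
    · rcases conj_mem_two h.extraspecial h.mem_iff hc.1 hx with e2 | e2
      · exact absurd (mul_inv_eq_iff_eq_mul.1 e2) hcx
      · refine Or.inr ⟨c⁻¹ * a, hmem _ (C0.mul_mem (C0.inv_mem hc) ha) ?_, by simp⟩
        calc c⁻¹ * a * x = c⁻¹ * (a * x * a⁻¹) * a := by group
          _ = c⁻¹ * (c * x * c⁻¹) * a := by rw [e1, e2]
          _ = x * (c⁻¹ * a) := by group
  have h1 := (Set.ncard_le_ncard hsub (Set.toFinite _)).trans (Set.ncard_union_le _ _)
  have h2 := Set.ncard_image_le (f := fun e => c * e) (Set.toFinite (C1 : Set G))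
  have e0 : (C0 : Set G).ncard = Nat.card ↥C0 := rfl
  have e1 : (C1 : Set G).ncard = Nat.card ↥C1 := rfl
  omega

/-- A hyperplane containing the centre is the centralizer of an element. -/
theorem exists_centralizer_eq (h : Setting E z) {M : Subgroup G} (hME : M ≤ E) (hzM : z ∈ M)
    {x0 : G} (hx0 : x0 ∈ E) (hx0M : x0 ∉ M)
    (hidx : ∀ a ∈ E, ∀ b ∈ E, a ∉ M → b ∉ M → a * b ∈ M) :
    ∃ e ∈ E, e ∉ zOf E ∧ ∀ x ∈ E, (x ∈ M ↔ x * e = e * x) := by
  classical
  set S : Set (Subgroup G) := {A | zOf E ≤ A ∧ A ≤ M ∧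
    2 * Nat.card ↥E ≤ Nat.card ↥(E ⊓ Subgroup.centralizer (A : Set G)) * Nat.card ↥A} with hS
  have hzle : zOf E ≤ M := fun x hx => by
    rcases (h.mem_iff x).1 hx with rfl | rfl
    · exact M.one_mem
    · exact hzM
  have hne : S.Nonempty := by
    refine ⟨zOf E, le_rfl, hzle, ?_⟩
    have : E ⊓ Subgroup.centralizer (zOf E : Set G) = E := inf_eq_left.2 (le_centralizer_zOf E)
    rw [this, card_zOf h.extraspecial, mul_comm]
  obtain ⟨A, ⟨hzA, hAM, hcard⟩, hmax⟩ := (Set.toFinite S).exists_maximal hne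
  have hAeq : A = M := by
    by_contra hAne
    obtain ⟨x, hxM, hxA⟩ := Set.exists_of_ssubset
      (lt_of_le_of_ne hAM hAne : A < M)
    set B := A ⊔ Subgroup.zpowers x with hB
    have hxB : x ∈ B := (le_sup_right : Subgroup.zpowers x ≤ B) (Subgroup.mem_zpowers x)
    have hlt : A < B := lt_of_le_of_ne le_sup_left fun e => hxA (e ▸ hxB)
    have h2 : 2 * Nat.card ↥A ≤ Nat.card ↥B := by
      obtain ⟨k, hk⟩ := Subgroup.card_dvd_of_le hlt.le
      rcases k with _ | _ | k
      · exact absurd hk (by rw [Nat.mul_zero]; exact Nat.card_pos.ne')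
      · exfalso
        exact hlt.ne (Subgroup.eq_of_le_of_card_ge hlt.le (by rw [hk]; simp))
      · rw [hk]; nlinarith
    have hBS : B ∈ S := by
      refine ⟨hzA.trans hlt.le, sup_le hAM (Subgroup.zpowers_le.2 hxM), hcard.trans ?_⟩
      have h3 := card_inf_centralizer_le h (A := A) (hME hxM)
      calc _ ≤ 2 * Nat.card ↥(E ⊓ Subgroup.centralizer (B : Set G)) * Nat.card ↥A :=
            Nat.mul_le_mul_right _ h3
        _ = Nat.card ↥(E ⊓ Subgroup.centralizer (B : Set G)) * (2 * Nat.card ↥A) := by ring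
        _ ≤ _ := Nat.mul_le_mul_left _ h2
    exact hlt.not_ge (hmax hBS hlt.le)
  subst hAeq
  obtain ⟨e, he, hez⟩ : ∃ e ∈ E ⊓ Subgroup.centralizer (A : Set G), e ∉ zOf E := by
    by_contra hn
    push Not at hn
    have h1 := Subgroup.card_le_of_le (show E ⊓ Subgroup.centralizer (A : Set G) ≤ zOf E from hn)
    rw [card_zOf h.extraspecial] at h1
    have h2 : Nat.card ↥A < Nat.card ↥E := by
      refine lt_of_le_of_ne (Subgroup.card_le_of_le hME) fun e => hx0M ?_
      rw [Subgroup.eq_of_le_of_card_ge hME e.ge]; exact hx0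
    have h3 := Nat.mul_le_mul_right (Nat.card ↥A) h1
    omega
  refine ⟨e, he.1, hez, fun x hx => ⟨fun hxA => Subgroup.mem_centralizer_iff.1 he.2 x hxA,
    fun hxe => ?_⟩⟩
  by_contra hxA
  refine hez (mem_zOf.2 ⟨he.1, fun q hq => ?_⟩)
  by_cases hqA : q ∈ A
  · exact Subgroup.mem_centralizer_iff.1 he.2 q hqA
  · have h1 := Subgroup.mem_centralizer_iff.1 he.2 _
      (hidx x⁻¹ (E.inv_mem hx) q hq (fun hh => hxA (by simpa using A.inv_mem hh)) hqA)
    calc q * e = x * (x⁻¹ * q * e) := by group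
      _ = x * (e * (x⁻¹ * q)) := by rw [h1]
      _ = (x * e) * x⁻¹ * q := by group
      _ = e * q := by rw [hxe, mul_inv_cancel_right]

/-- Width at least two: an involution of `E` outside the centralizer of a noncentral element. -/
theorem exists_involution (h : Setting E z) (hw : 32 ≤ Nat.card ↥E) {e : G} (he : e ∈ E)
    (hez : e ∉ zOf E) : ∃ t ∈ E, t * t = 1 ∧ t * e ≠ e * t := by
  have hsq : ∀ q ∈ E, q * q = 1 ∨ q * q = z := fun q hq =>
    (h.mem_iff _).1 (sq_mem h.extraspecial hq)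
  obtain ⟨x, hx, hxe⟩ := exists_conj_eq_mul h.extraspecial h.mem_iff he hez
  have hxne : x * e ≠ e * x := fun hh => h.z_ne_one <| mul_eq_right.1
    (hxe.symm.trans (by rw [hh, mul_inv_cancel_right]))
  rcases hsq x hx with hx2 | hx2
  · exact ⟨x, hx, hx2, hxne⟩
  obtain ⟨p, hp, q, hq, hpe, hqe, hpq⟩ := centralizer_nonabelian h hw he hez
  have adj : ∀ a ∈ E, a * e = e * a → ∃ b ∈ E, b * e = e * b ∧ b * x = x * b ∧
      ∀ c : G, c * e = e * c → (a * c = c * a ↔ b * c = c * b) := by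
    intro a ha hae
    rcases conj_mem_two h.extraspecial h.mem_iff hx ha with e1 | e1
    · exact ⟨a, ha, hae, (mul_inv_eq_iff_eq_mul.1 e1).symm, fun c _ => Iff.rfl⟩
    · refine ⟨a * e, E.mul_mem ha he, by rw [mul_assoc, ← mul_assoc e a e, ← hae, mul_assoc], ?_,
        fun c hc => ?_⟩
      · apply Eq.symm
        apply mul_inv_eq_iff_eq_mul.1
        calc x * (a * e) * x⁻¹ = (x * a * x⁻¹) * (x * e * x⁻¹) := by group
          _ = z * a * (z * e) := by rw [e1, hxe]
          _ = (z * a * z) * e := by group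
          _ = (a * z * z) * e := by rw [h.comm ha]
          _ = a * e := by rw [mul_assoc a z z, h.z_mul_z, mul_one]
      · have hcomm : a * e * c = a * c * e := by rw [mul_assoc, ← hc, ← mul_assoc]
        rw [hcomm, ← mul_assoc, mul_left_inj]
  obtain ⟨p', hp', hp'e, hp'x, hp'c⟩ := adj p hp hpe
  obtain ⟨q', hq', hq'e, hq'x, hq'c⟩ := adj q hq hqe
  have hne : p' * q' ≠ q' * p' := by
    intro hh
    have h1 : p * q' = q' * p := (hp'c q' hq'e).2 hh
    have h2 : q * p = p * q := (hq'c p hpe).2 h1.symm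
    apply h.z_ne_one
    rw [← hpq, ← h2]
    group
  obtain ⟨w, hw', hwe, hwx, hw2⟩ : ∃ w ∈ E, w * e = e * w ∧ w * x = x * w ∧ w * w = z := by
    by_contra hn
    push Not at hn
    have h1 := (hsq p' hp').resolve_right (hn p' hp' hp'e hp'x)
    have h2 := (hsq q' hq').resolve_right (hn q' hq' hq'e hq'x)
    have h3 := (hsq _ (E.mul_mem hp' hq')).resolve_right
      (hn _ (E.mul_mem hp' hq')
        (by rw [mul_assoc, hq'e, ← mul_assoc, hp'e, mul_assoc])
        (by rw [mul_assoc, hq'x, ← mul_assoc, hp'x, mul_assoc]))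
    apply hne
    have h3' : p' * q' = (p' * q')⁻¹ := eq_inv_of_mul_eq_one_left h3
    rw [h3', mul_inv_rev, inv_eq_of_mul_eq_one_right h1, inv_eq_of_mul_eq_one_right h2]
  refine ⟨x * w, E.mul_mem hx hw', ?_, fun hh => hxne ?_⟩
  · calc x * w * (x * w) = x * (w * x) * w := by group
      _ = x * x * (w * w) := by rw [hwx]; group
      _ = 1 := by rw [hx2, hw2, h.z_mul_z]
  · refine mul_right_cancel (b := w) ?_
    calc x * e * w = x * (w * e) := by rw [mul_assoc, hwe]
      _ = x * w * e := by group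
      _ = e * x * w := by rw [hh, mul_assoc]

end CfsgLib.LargeExtraTransfer
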