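import Mathlib
import Cfsg.Agent.LargeExtraTransfer.Basic

/-!
Width one: the centralizer of an involution whose 2-core is `Q₈` or `D₈` and contains its
centralizer has no quotient cyclic of order four.
-/

set_option autoImplicit false

namespace CfsgLib.LargeExtraTransfer

open Cfsg CfsgLib.LargeExtraspecial

variable {G : Type*} [Group G] [Finite G] {E : Subgroup G} {z : G}

/-- Two elements are equal up to the central involution. -/
def SameMod (z a b : G) : Prop := a = b ∨ a = z * b

theorem SameMod.conj {a b c : G} (hc : c * z = z * c) (h : SameMod z a b) :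
    SameMod z (c * a * c⁻¹) (c * b * c⁻¹) := by
  rcases h with rfl | rfl
  · exact Or.inl rfl
  · refine Or.inr ?_
    calc c * (z * b) * c⁻¹ = (c * z) * b * c⁻¹ := by group
      _ = z * (c * b * c⁻¹) := by rw [hc]; group

theorem SameMod.trans (hzz : z * z = 1) {a b c : G} (h : SameMod z a b) (h' : SameMod z b c) :
    SameMod z a c := by
  rcases h with rfl | rfl <;> rcases h' with rfl | rfl
  · exact Or.inl rfl
  · exact Or.inr rfl
  · exact Or.inr rfl
  · exact Or.inl (by rw [← mul_assoc, hzz, one_mul])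

theorem SameMod.symm (hzz : z * z = 1) {a b : G} (h : SameMod z a b) : SameMod z b a := by
  rcases h with rfl | rfl
  · exact Or.inl rfl
  · exact Or.inr (by rw [← mul_assoc, hzz, one_mul])

/-- `E` is covered by four classes modulo `z`. -/
theorem four_classes (h : Setting E z) (hcard : Nat.card ↥E = 8) {a b : G} (ha : a ∈ E) (hb : b ∈ E)
    (ha1 : ¬ SameMod z a 1) (hb1 : ¬ SameMod z b 1) (hab : ¬ SameMod z a b) {x : G} (hx : x ∈ E) :
    SameMod z x 1 ∨ SameMod z x a ∨ SameMod z x b ∨ SameMod z x (a * b) := by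
  classical
  have hzz := h.z_mul_z
  have hinv : ∀ c ∈ E, SameMod z c⁻¹ c := by
    intro c hc
    rcases (h.mem_iff _).1 (sq_mem h.extraspecial hc) with e | e
    · exact Or.inl (inv_eq_of_mul_eq_one_right e)
    · exact Or.inr (inv_eq_of_mul_eq_one_right (by
        rw [← mul_assoc, h.comm hc, mul_assoc, e, hzz]))
  have hd : ∀ c d : G, c ∈ ({1, a, b, a * b} : Set G) → d ∈ ({1, a, b, a * b} : Set G) →
      SameMod z c d → c = d := by
    have h1a : ¬ SameMod z 1 a := fun h' => ha1 (h'.symm hzz)
    have h1b : ¬ SameMod z 1 b := fun h' => hb1 (h'.symm hzz)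
    have hba : ¬ SameMod z b a := fun h' => hab (h'.symm hzz)
    have hpa : ¬ SameMod z (a * b) a := by
      rintro (e | e)
      · exact hb1 (Or.inl (mul_eq_left.1 e))
      · exact hb1 (Or.inr (by rw [mul_one]; exact mul_left_cancel (e.trans (h.comm ha).symm)))
    have hpb : ¬ SameMod z (a * b) b := by
      rintro (e | e)
      · exact ha1 (Or.inl (mul_eq_right.1 e))
      · exact ha1 (Or.inr (by rw [mul_one]; exact mul_right_cancel e))
    have hp1 : ¬ SameMod z (a * b) 1 := by
      rintro (e | e)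
      · refine hab ((SameMod.trans hzz (Or.inl ?_) (hinv b hb)))
        exact eq_inv_of_mul_eq_one_left e
      · refine hab (SameMod.trans hzz (Or.inr ?_) (hinv b hb))
        rw [mul_one] at e
        rw [← e, mul_inv_cancel_right]
    have hap : ¬ SameMod z a (a * b) := fun h' => hpa (h'.symm hzz)
    have hbp : ¬ SameMod z b (a * b) := fun h' => hpb (h'.symm hzz)
    have h1p : ¬ SameMod z 1 (a * b) := fun h' => hp1 (h'.symm hzz)
    intro c d hc hd' h'
    simp only [Set.mem_insert_iff, Set.mem_singleton_iff] at hc hd'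
    rcases hc with rfl | rfl | rfl | rfl <;> rcases hd' with rfl | rfl | rfl | rfl <;>
      first
        | rfl
        | exact absurd h' h1a
        | exact absurd h' h1b
        | exact absurd h' h1p
        | exact absurd h' ha1
        | exact absurd h' hab
        | exact absurd h' hap
        | exact absurd h' hb1
        | exact absurd h' hba
        | exact absurd h' hbp
        | exact absurd h' hp1
        | exact absurd h' hpa
        | exact absurd h' hpb
  set R : Set G := {1, a, b, a * b} with hR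
  have hRc : R.ncard = 4 := by
    have hmem : ∀ c d : G, c ∈ R → d ∈ R → c ≠ d → ¬ SameMod z c d := fun c d hc hd' hne h' =>
      hne (hd c d hc hd' h')
    rw [hR, Set.ncard_insert_of_notMem, Set.ncard_insert_of_notMem, Set.ncard_insert_of_notMem,
      Set.ncard_singleton]
    · intro e
      rw [Set.mem_singleton_iff] at e
      exact ha1 (Or.inl (mul_eq_right.1 e.symm))
    · rintro (e | e)
      · exact hab (Or.inl e)
      · exact hb1 (Or.inl (mul_eq_left.1 (Set.mem_singleton_iff.1 e).symm))
    · rintro (e | e | e)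
      · exact ha1 (Or.inl e.symm)
      · exact hb1 (Or.inl e.symm)
      · exact hab (SameMod.trans hzz (Or.inl (eq_inv_of_mul_eq_one_left
          (Set.mem_singleton_iff.1 e).symm)) (hinv b hb))
  have hzR : ((fun c => z * c) '' R).ncard = 4 := by
    rw [Set.ncard_image_of_injective _ (mul_right_injective z), hRc]
  have hdis : Disjoint R ((fun c => z * c) '' R) := by
    rw [Set.disjoint_left]
    rintro c hc ⟨d, hd', hce⟩
    have e : c = d := hd c d hc hd' (Or.inr hce.symm)
    rw [← e] at hce
    exact h.z_ne_one (mul_eq_right.1 hce)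
  have hRE : ∀ c ∈ R, c ∈ E := by
    intro c hc
    simp only [hR, Set.mem_insert_iff, Set.mem_singleton_iff] at hc
    rcases hc with rfl | rfl | rfl | rfl
    · exact E.one_mem
    · exact ha
    · exact hb
    · exact E.mul_mem ha hb
  have heq : R ∪ (fun c => z * c) '' R = (E : Set G) := by
    refine Set.eq_of_subset_of_ncard_le ?_ ?_ (Set.toFinite _)
    · rintro c (hc | ⟨d, hd', rfl⟩)
      · exact hRE c hc
      · exact E.mul_mem h.z_mem (hRE d hd')
    · rw [Set.ncard_union_eq hdis, hRc, hzR, show (E : Set G).ncard = Nat.card ↥E from rfl, hcard]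
  have hx' : x ∈ R ∪ (fun c => z * c) '' R := heq ▸ hx
  simp only [hR, Set.mem_union, Set.mem_image, Set.mem_insert_iff, Set.mem_singleton_iff] at hx'
  rcases hx' with (e | e | e | e) | ⟨d, e | e | e | e, rfl⟩
  · exact Or.inl (Or.inl e)
  · exact Or.inr (Or.inl (Or.inl e))
  · exact Or.inr (Or.inr (Or.inl (Or.inl e)))
  · exact Or.inr (Or.inr (Or.inr (Or.inl e)))
  · exact Or.inl (Or.inr (by rw [e]))
  · exact Or.inr (Or.inl (Or.inr (by rw [e])))
  · exact Or.inr (Or.inr (Or.inl (Or.inr (by rw [e]))))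
  · exact Or.inr (Or.inr (Or.inr (Or.inr (by rw [e]))))

/-- At width one every 2-element has square killed by every homomorphism to an abelian group. -/
theorem sq_eq_one_of_width_one {A : Type*} [CommGroup A] (h : Setting E z)
    (hcard : Nat.card ↥E = 8) {H : Subgroup G} (hHeq : H = Subgroup.centralizer ({z} : Set G))
    (hcore : ∀ N : Subgroup G, N ≤ H → IsPGroup 2 ↥N →
      (∀ c ∈ H, ∀ n ∈ N, c * n * c⁻¹ ∈ N) → N ≤ E)
    (φ : ↥H →* A) {x : G} (hx : x ∈ H) {k : ℕ} (hxk : x ^ 2 ^ k = 1) :
    φ ⟨x, hx⟩ * φ ⟨x, hx⟩ = 1 := by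
  classical
  have hzz := h.z_mul_z
  have hHz : ∀ c : G, c ∈ H ↔ c * z = z * c := fun c => by
    rw [hHeq]; exact Subgroup.mem_centralizer_singleton_iff
  have hEH : ∀ c ∈ E, c ∈ H := fun c hc => (hHz c).2 (h.comm hc)
  let ψ : G → A := fun c => if hc : c ∈ H then φ ⟨c, hc⟩ else 1
  have hψ : ∀ c (hc : c ∈ H), ψ c = φ ⟨c, hc⟩ := fun c hc => by simp [ψ, hc]
  have hψm : ∀ c ∈ H, ∀ d ∈ H, ψ (c * d) = ψ c * ψ d := fun c hc d hd => by
    rw [hψ c hc, hψ d hd, hψ _ (H.mul_mem hc hd), ← map_mul]; rfl
  have hψc : ∀ c ∈ H, ∀ d ∈ H, ψ (c * d * c⁻¹) = ψ d := by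
    intro c hc d hd
    rw [hψ _ (H.mul_mem (H.mul_mem hc hd) (H.inv_mem hc)), hψ d hd,
      show (⟨c * d * c⁻¹, _⟩ : ↥H) = (⟨c, hc⟩ : ↥H) * ⟨d, hd⟩ * (⟨c, hc⟩ : ↥H)⁻¹ from rfl,
      map_mul, map_mul, map_inv, mul_comm (φ _) (φ ⟨d, hd⟩), mul_inv_cancel_right]
  have hψ1 : ψ 1 = 1 := by rw [hψ 1 H.one_mem]; exact map_one φ
  -- the central involution is killed
  obtain ⟨a0, ha0, ha0z⟩ : ∃ a ∈ E, a ∉ zOf E := by
    by_contra hn
    push Not at hn
    have h1 := Subgroup.card_le_of_le (show E ≤ zOf E from hn)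
    rw [card_zOf h.extraspecial] at h1
    omega
  obtain ⟨b0, hb0, hb0a⟩ := exists_conj_eq_mul h.extraspecial h.mem_iff ha0 ha0z
  have hψz : ψ z = 1 := by
    have h1 := hψc b0 (hEH b0 hb0) a0 (hEH a0 ha0)
    rw [hb0a, hψm z (hEH z h.z_mem) a0 (hEH a0 ha0)] at h1
    exact mul_eq_right.1 h1
  have hψS : ∀ c d : G, d ∈ H → SameMod z c d → ψ c = ψ d := by
    rintro c d hd (rfl | rfl)
    · rfl
    · rw [hψm z (hEH z h.z_mem) d hd, hψz, one_mul]
  rw [← hψ x hx, ← hψm x hx x hx]
  have hzOf : ∀ c : G, SameMod z c 1 ↔ c ∈ zOf E := fun c => by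
    rw [h.mem_iff]; exact or_congr Iff.rfl (by rw [mul_one])
  have hcl : ∀ c ∈ H, ∀ e ∈ E, ¬ SameMod z e 1 → ¬ SameMod z (c * e * c⁻¹) 1 := by
    intro c hc e he hne hh
    apply hne
    have := SameMod.conj (c := c⁻¹) (Commute.inv_left ((hHz c).1 hc)).eq hh
    simpa [mul_assoc] using this
  -- elements fixing all classes lie in `E`
  have hker : ∀ d ∈ H, (∀ e ∈ E, SameMod z (d * e * d⁻¹) e) → d ∈ E := by
    intro d hd hfix
    have hdz := (hHz d).1 hd
    have ha1 : ¬ SameMod z a0 1 := fun hh => ha0z ((hzOf a0).1 hh)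
    have hne : b0 * a0 ≠ a0 * b0 := fun hh => h.z_ne_one <| mul_eq_right.1
      (hb0a.symm.trans (by rw [hh, mul_inv_cancel_right]))
    have hb1 : ¬ SameMod z b0 1 := by
      intro hh
      exact hne ((mem_zOf.1 ((hzOf b0).1 hh)).2 a0 ha0).symm
    have hab : ¬ SameMod z a0 b0 := by
      rintro (e | e)
      · exact hne (by rw [e])
      · exact hne (by rw [e, mul_assoc, ← mul_assoc b0 z, h.comm hb0, mul_assoc])
    have hcomm : ∀ c : G, c * z = z * c → c * a0 * c⁻¹ = a0 → c * b0 * c⁻¹ = b0 → c ∈ E := by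
      intro c hcz h1 h2
      refine zOf_le E (h.centralizer_eq ▸ Subgroup.mem_centralizer_iff.2 fun e he => ?_)
      have e1 := (mul_inv_eq_iff_eq_mul.1 h1).symm
      have e2 := (mul_inv_eq_iff_eq_mul.1 h2).symm
      have hle : ({1, a0, b0, a0 * b0, z} : Set G) ⊆ Subgroup.centralizer ({c} : Set G) := by
        intro v hv
        simp only [Set.mem_insert_iff, Set.mem_singleton_iff] at hv
        have hac : a0 ∈ Subgroup.centralizer ({c} : Set G) := Subgroup.mem_centralizer_singleton_iff.2 e1
        have hbc : b0 ∈ Subgroup.centralizer ({c} : Set G) := Subgroup.mem_centralizer_singleton_iff.2 e2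
        rcases hv with rfl | rfl | rfl | rfl | rfl
        · exact Subgroup.one_mem _
        · exact hac
        · exact hbc
        · exact Subgroup.mul_mem _ hac hbc
        · exact Subgroup.mem_centralizer_singleton_iff.2 hcz.symm
      have : e ∈ Subgroup.centralizer ({c} : Set G) := by
        have hzc : z ∈ Subgroup.centralizer ({c} : Set G) := hle (by simp)
        rcases four_classes h hcard ha0 hb0 ha1 hb1 hab he with (rfl | rfl) | (rfl | rfl) | (rfl | rfl) | (rfl | rfl)
        · exact Subgroup.one_mem _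
        · exact Subgroup.mul_mem _ hzc (Subgroup.one_mem _)
        · exact hle (by simp)
        · exact Subgroup.mul_mem _ hzc (hle (by simp))
        · exact hle (by simp)
        · exact Subgroup.mul_mem _ hzc (hle (by simp))
        · exact hle (by simp)
        · exact Subgroup.mul_mem _ hzc (hle (by simp))
      exact Subgroup.mem_centralizer_singleton_iff.1 this
    -- correct `d` by an inner automorphism
    have hz_conj : ∀ c : G, c * z = z * c → c * (z * a0) * c⁻¹ = z * (c * a0 * c⁻¹) := by
      intro c hc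
      calc c * (z * a0) * c⁻¹ = (c * z) * a0 * c⁻¹ := by group
        _ = _ := by rw [hc]; group
    obtain ⟨d1, hd1z, hd1a, hd1d⟩ : ∃ d1 : G, d1 * z = z * d1 ∧ d1 * a0 * d1⁻¹ = a0 ∧
        ∃ e1 ∈ E, d = e1 * d1 := by
      rcases hfix a0 ha0 with e | e
      · exact ⟨d, hdz, e, 1, E.one_mem, (one_mul d).symm⟩
      · refine ⟨b0 * d, ?_, ?_, b0⁻¹, E.inv_mem hb0, (inv_mul_cancel_left b0 d).symm⟩
        · rw [mul_assoc, hdz, ← mul_assoc, h.comm hb0, mul_assoc]
        · calc b0 * d * a0 * (b0 * d)⁻¹ = b0 * (d * a0 * d⁻¹) * b0⁻¹ := by group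
            _ = z * (z * a0) := by rw [e, hz_conj b0 (h.comm hb0), hb0a]
            _ = a0 := by rw [← mul_assoc, hzz, one_mul]
    obtain ⟨e1, he1, rfl⟩ := hd1d
    refine E.mul_mem he1 ?_
    have hd1b : SameMod z (d1 * b0 * d1⁻¹) b0 := by
      have h1 := (hfix b0 hb0).conj (c := e1⁻¹) (h.comm (E.inv_mem he1))
      rw [show e1⁻¹ * (e1 * d1 * b0 * (e1 * d1)⁻¹) * e1⁻¹⁻¹ = d1 * b0 * d1⁻¹ by group] at h1
      refine h1.trans hzz ?_
      rcases conj_mem_two h.extraspecial h.mem_iff (E.inv_mem he1) hb0 with e | e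
      · exact Or.inl e
      · exact Or.inr e
    rcases hd1b with e | e
    · exact hcomm d1 hd1z hd1a e
    · have h2 : a0 * d1 ∈ E := by
        refine hcomm _ ?_ ?_ ?_
        · rw [mul_assoc, hd1z, ← mul_assoc, h.comm ha0, mul_assoc]
        · calc a0 * d1 * a0 * (a0 * d1)⁻¹ = a0 * (d1 * a0 * d1⁻¹) * a0⁻¹ := by group
            _ = a0 := by rw [hd1a, mul_inv_cancel_right]
        · have hab0 : a0 * b0 * a0⁻¹ = z * b0 := by
            rcases conj_mem_two h.extraspecial h.mem_iff ha0 hb0 with e' | e'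
            · exact absurd (mul_inv_eq_iff_eq_mul.1 e').symm hne
            · exact e'
          calc a0 * d1 * b0 * (a0 * d1)⁻¹ = a0 * (d1 * b0 * d1⁻¹) * a0⁻¹ := by group
            _ = (a0 * z * a0⁻¹) * (a0 * b0 * a0⁻¹) := by rw [e]; group
            _ = b0 := by rw [h.comm ha0, mul_inv_cancel_right, hab0, ← mul_assoc, hzz, one_mul]
      have := E.mul_mem (E.inv_mem ha0) h2
      rwa [inv_mul_cancel_left] at this
  -- a homomorphic square on `E`
  have hEsq : ∀ e ∈ E, ψ e * ψ e = 1 := by
    intro e he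
    rw [← hψm e (hEH e he) e (hEH e he)]
    rcases (h.mem_iff _).1 (sq_mem h.extraspecial he) with e' | e' <;> rw [e']
    · exact hψ1
    · exact hψz
  have hmul2 : ∀ d : G, d ∈ H → ∀ e : G,
      d * (d * e * d⁻¹) * d⁻¹ = (d * d) * e * (d * d)⁻¹ := fun d _ e => by group
  by_cases hcyc : ∀ c ∈ H, ∀ e ∈ E, SameMod z (c * c * e * (c * c)⁻¹) e
  · -- `H` is a 2-group, hence equal to `E`
    have hsq : ∀ c ∈ H, c * c ∈ E := fun c hc => hker _ (H.mul_mem hc hc) (hcyc c hc)
    have hHp : IsPGroup 2 ↥H := by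
      intro c
      obtain ⟨n, hn⟩ := (isPGroup_of_isExtraspecial h.extraspecial) ⟨_, hsq c c.2⟩
      refine ⟨n + 1, Subtype.ext ?_⟩
      have := congrArg Subtype.val hn
      simp only [SubmonoidClass.coe_pow, OneMemClass.coe_one] at this ⊢
      rw [pow_succ', pow_mul, pow_two]
      exact this
    have hxE : x ∈ E :=
      hcore H le_rfl hHp (fun c hc n hn => H.mul_mem (H.mul_mem hc hn) (H.inv_mem hc)) hx
    rw [hψm x hx x hx]
    exact hEsq x hxE
  · push Not at hcyc
    obtain ⟨g, hg, e, he, hge⟩ := hcyc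
    have hgz := (hHz g).1 hg
    set b := g * e * g⁻¹ with hb
    set c := g * b * g⁻¹ with hc
    have hce : ¬ SameMod z c e := by rw [hc, hb, hmul2 g hg e]; exact hge
    have hbE : b ∈ E := (h.normalized g hgz e).1 he
    have hcE : c ∈ E := (h.normalized g hgz b).1 hbE
    have he1 : ¬ SameMod z e 1 := by
      intro hh
      apply hge
      rcases hh with rfl | rfl
      · left; group
      · left
        have : g * g * (z * 1) = z * 1 * (g * g) := by
          rw [mul_one, mul_assoc g g z, hgz, ← mul_assoc, hgz, mul_assoc]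
        rw [this, mul_inv_cancel_right]
    have hb1 : ¬ SameMod z b 1 := hcl g hg e he he1
    have hc1 : ¬ SameMod z c 1 := hcl g hg b hbE hb1
    have heb : ¬ SameMod z e b := by
      intro hh
      have h1 := hh.conj hgz
      rw [← hb, ← hc] at h1
      exact hce (((hh.trans hzz h1)).symm hzz)
    have hcb : ¬ SameMod z c b := by
      intro hh
      have h1 := SameMod.conj (c := g⁻¹) (Commute.inv_left hgz).eq hh
      rw [hc, hb] at h1
      apply heb
      rw [hb]
      have h2 : SameMod z (g * e * g⁻¹) e := by simpa [mul_assoc] using h1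
      exact h2.symm hzz
    have hcab : SameMod z c (e * b) := by
      rcases four_classes h hcard he hbE he1 hb1 heb hcE with h' | h' | h' | h'
      · exact absurd h' hc1
      · exact absurd h' hce
      · exact absurd h' hcb
      · exact h'
    have hψb : ψ b = ψ e := hψc g hg e (hEH e he)
    have hψe : ψ e = 1 := by
      have h1 : ψ c = ψ b := hψc g hg b (hEH b hbE)
      rw [hψS c (e * b) (hEH _ (E.mul_mem he hbE)) hcab, hψm e (hEH e he) b (hEH b hbE)] at h1
      exact mul_eq_right.1 h1
    have hψE : ∀ v ∈ E, ψ v = 1 := by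
      intro v hv
      rcases four_classes h hcard he hbE he1 hb1 heb hv with h' | h' | h' | h'
      · rw [hψS v 1 H.one_mem h', hψ1]
      · rw [hψS v e (hEH e he) h', hψe]
      · rw [hψS v b (hEH b hbE) h', hψb, hψe]
      · rw [hψS v _ (hEH _ (E.mul_mem he hbE)) h', hψm e (hEH e he) b (hEH b hbE), hψb, hψe, one_mul]
    refine hψE _ (hker _ (H.mul_mem hx hx) fun v hv => ?_)
    by_contra hne
    have hxz := (hHz x).1 hx
    set p := x * v * x⁻¹ with hp
    set q := x * p * x⁻¹ with hq
    have hqv : ¬ SameMod z q v := by rw [hq, hp, hmul2 x hx v]; exact hne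
    have hpE : p ∈ E := (h.normalized x hxz v).1 hv
    have hqE : q ∈ E := (h.normalized x hxz p).1 hpE
    have hv1 : ¬ SameMod z v 1 := by
      intro hh
      apply hne
      rcases hh with rfl | rfl
      · left; group
      · left
        have : x * x * (z * 1) = z * 1 * (x * x) := by
          rw [mul_one, mul_assoc x x z, hxz, ← mul_assoc, hxz, mul_assoc]
        rw [this, mul_inv_cancel_right]
    have hp1 : ¬ SameMod z p 1 := hcl x hx v hv hv1
    have hvp : ¬ SameMod z v p := by
      intro hh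
      have h1 := hh.conj hxz
      rw [← hp, ← hq] at h1
      exact hqv ((hh.trans hzz h1).symm hzz)
    set r := x * q * x⁻¹ with hr
    have hrE : r ∈ E := (h.normalized x hxz q).1 hqE
    have back : ∀ s t : G, SameMod z (x * s * x⁻¹) (x * t * x⁻¹) → SameMod z s t := by
      intro s t hh
      have := SameMod.conj (c := x⁻¹) (Commute.inv_left hxz).eq hh
      simpa [mul_assoc] using this
    have hqvp : SameMod z q (v * p) := by
      rcases four_classes h hcard hv hpE hv1 hp1 hvp hqE with h' | h' | h' | h'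
      · exact absurd h' (hcl x hx p hpE hp1)
      · exact absurd h' hqv
      · exact absurd (back p v h') (fun hh => hvp (hh.symm hzz))
      · exact h'
    have hrv : SameMod z r v := by
      rcases four_classes h hcard hv hpE hv1 hp1 hvp hrE with h' | h' | h' | h'
      · exact absurd h' (hcl x hx q hqE (hcl x hx p hpE hp1))
      · exact h'
      · exact absurd (back q v h') hqv
      · exact absurd (back q p (h'.trans hzz (hqvp.symm hzz))) (fun hh => hvp ((back p v hh).symm hzz))
    -- `x³` fixes the class of `v`, hence so does `x`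
    set y := x ^ 3 with hy
    have hyz : y * z = z * y := (Commute.pow_left (show Commute x z from hxz) 3).eq
    have hy3 : y * v * y⁻¹ = r := by
      rw [hr, hq, hp, hy, pow_succ, pow_two]; group
    have hpow : ∀ m : ℕ, SameMod z (y ^ m * v * (y ^ m)⁻¹) v := by
      intro m
      induction m with
      | zero => left; simp
      | succ m ih =>
        have h1 := ih.conj hyz
        rw [hy3, show y * (y ^ m * v * (y ^ m)⁻¹) * y⁻¹ = y ^ (m + 1) * v * (y ^ (m + 1))⁻¹ by
          rw [pow_succ', mul_inv_rev]; group] at h1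
        exact h1.trans hzz hrv
    obtain ⟨m, hm⟩ : ∃ m : ℕ, y ^ m = x := by
      rcases Nat.eq_zero_or_pos k with rfl | hk
      · exact ⟨0, by rw [pow_zero] at hxk ⊢; rw [pow_one] at hxk; exact hxk.symm⟩
      have hcop : Nat.Coprime 3 (orderOf x) := by
        have hdvd := orderOf_dvd_of_pow_eq_one hxk
        exact Nat.Coprime.coprime_dvd_right hdvd (Nat.Coprime.pow_right k (by norm_num))
      obtain ⟨m, hm⟩ := exists_pow_eq_self_of_coprime hcop
      exact ⟨m, hm⟩
    have h2 := hpow m
    rw [hm, ← hp] at h2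
    exact hvp (h2.symm hzz)

end CfsgLib.LargeExtraTransfer
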